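import Cfsg.Agent.H360.LD.RowJ3
import Cfsg.Agent.H142.GmnBlock
import Cfsg.Agent.H724.IMJThree

/-!
# S4829, `J₃`, `p = 3` : the character of degree 1615 (helper469)

It is the only one of its degree (helper360), hence integer valued and fixed by all automorphisms; the centraliser of a
Sylow 3-subgroup is a 3-group, hence it lies in the principal 3-block.
-/

set_option autoImplicit false
set_option linter.unusedSectionVars false

namespace Cfsg.Agent.H469.CY

open Cfsg Subgroup
open Cfsg.Agent.H417.JThreeLP Cfsg.Agent.M23Order.Base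

universe u

variable {S : Type u} [Group S] [Finite S]

/-- integer values from uniqueness of the degree -/
theorem int_of_unique {χ : IrrCharacter S}
    (h : ∀ ψ : IrrCharacter S, (ψ : S → ℂ) 1 = (χ : S → ℂ) 1 → ψ = χ) (g : S) : ∃ k : ℤ, (χ : S → ℂ) g = k := by
  refine Characters.Galois.exists_int_of_forall_ringEquiv (CharactersDeep.ModCongr.isIntegral_irr χ.2 g) fun σ => ?_
  have h1 := h ⟨_, Characters.GaloisIrr.isIrr_map σ χ.2⟩ (by
    show σ ((χ : S → ℂ) 1) = (χ : S → ℂ) 1
    rw [Blocks.Basic.irr_one_eq_charDegree χ.2, map_natCast])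
  exact congrFun (congrArg Subtype.val h1) g

/-- a `p'`-degree character is in the principal block if `C_G(P)` is a `p`-group -/
theorem mem_principal {p : ℕ} [Fact p.Prime] {M : Ideal AlgInt} (hM : IsPModular p M) (P : Sylow p S)
    (hC : IsPGroup p (centralizer ((P : Subgroup S) : Set S))) (χ : IrrCharacter S)
    (hχ : ¬ p ∣ charDegree (χ : S → ℂ)) : χ ∈ principalBlock M S :=
  Cfsg.Agent.H142.GmnBlock.mem_principal hM P χ hχ fun g hg =>
    Cfsg.Agent.H142.GmnBlock.mem_of_pElement hM χ (by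
      obtain ⟨k, hk⟩ := IsPGroup.iff_orderOf.1 hC ⟨g, hg⟩
      exact ⟨k, by rwa [Subgroup.orderOf_mk] at hk⟩)

/-- the centraliser of a Sylow 3-subgroup of `J₃` is a 3-group -/
theorem cent_three (h : Spor.IsoJ3 S) (Q : Sylow 3 S) : IsPGroup 3 (centralizer ((Q : Subgroup S) : Set S)) := by
  have hc : Nat.card S = 50232960 := (H898.J3Cent.base h).2.1
  have f3 : Fact (Nat.Prime 3) := ⟨by norm_num⟩
  have f5 : Fact (Nat.Prime 5) := ⟨by norm_num⟩
  have hQ : 3 ^ 5 ∣ Nat.card (Q : Subgroup S) := Q.pow_dvd_card_of_pow_dvd_card (by rw [hc]; norm_num)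
  have hpos : Nat.card (centralizer ((Q : Subgroup S) : Set S)) ≠ 0 := Nat.card_pos.ne'
  refine IsPGroup.of_card (Nat.eq_prime_pow_of_unique_prime_dvd hpos fun {r} hr hrd => ?_)
  by_contra hr3
  have : Fact r.Prime := ⟨hr⟩
  obtain ⟨⟨c, hcQ⟩, hco⟩ := exists_prime_orderOf_dvd_card' (G := centralizer ((Q : Subgroup S) : Set S)) r hrd
  rw [Subgroup.orderOf_mk] at hco
  have hle : (Q : Subgroup S) ≤ centralizer ({c} : Set S) := by
    intro x hx
    rw [mem_centralizer_singleton_iff]
    exact mem_centralizer_iff.1 hcQ x hx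
  have hdv : 3 ^ 5 ∣ Nat.card (centralizer ({c} : Set S)) := hQ.trans (card_dvd_of_le hle)
  have hrS : r ∣ 50232960 := by
    rw [← hc, ← hco]
    exact orderOf_dvd_natCard c
  rcases H898.J3Cent.prime_dvd_card hr hrS with rfl | rfl | rfl | rfl | rfl
  · rw [H724.IMJThree.card_two h hco] at hdv
    norm_num at hdv
  · exact hr3 rfl
  · obtain ⟨y, hy, hyC⟩ := H724.IMJThree.exists_five h
    have key : ∀ x : S, orderOf x = 5 → ∃ T : Sylow 5 S, (T : Subgroup S) = zpowers x := by
      intro x hx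
      have h1 : Nat.card (zpowers x) = 5 ^ (Nat.card S).factorization 5 := by
        rw [Nat.card_zpowers, hx, hc]
        have h2 : (50232960 : ℕ).factorization 5 = 1 := by
          apply le_antisymm
          · by_contra h3
            have h4 : 2 ≤ (50232960 : ℕ).factorization 5 := by omega
            have h5 := (Nat.pow_dvd_pow 5 h4).trans (Nat.ordProj_dvd 50232960 5)
            norm_num at h5
          · exact (Nat.Prime.dvd_iff_one_le_factorization (by norm_num) (by norm_num)).1 (by norm_num)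
        rw [h2, pow_one]
      exact ⟨Sylow.ofCard (zpowers x) h1, rfl⟩
    obtain ⟨T1, hT1⟩ := key c hco
    obtain ⟨T2, hT2⟩ := key y hy
    obtain ⟨g, hg⟩ := MulAction.exists_smul_eq S T1 T2
    have h1 : (zpowers c).map (MulAut.conj g).toMonoidHom = zpowers y := by
      rw [← hT1, ← hT2, ← hg]
      rfl
    -- `y = g c^k g⁻¹`
    have h2 : y ∈ (zpowers c).map (MulAut.conj g).toMonoidHom := by rw [h1]; exact mem_zpowers y
    obtain ⟨w, hw, hwy⟩ := h2
    obtain ⟨k, rfl⟩ := mem_zpowers_iff.1 hw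
    have h3 : g * c ^ k * g⁻¹ = y := hwy
    have h4 : (centralizer ({c} : Set S)).map (MulAut.conj g).toMonoidHom ≤ centralizer ({y} : Set S) := by
      rintro _ ⟨x, hx, rfl⟩
      rw [mem_centralizer_singleton_iff]
      have h5 : x * c = c * x := mem_centralizer_singleton_iff.1 hx
      have h6 : x * c ^ k = c ^ k * x := (Commute.zpow_right (show Commute x c from h5) k)
      change g * x * g⁻¹ * y = y * (g * x * g⁻¹)
      rw [← h3]
      calc g * x * g⁻¹ * (g * c ^ k * g⁻¹) = g * (x * c ^ k) * g⁻¹ := by group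
        _ = g * (c ^ k * x) * g⁻¹ := by rw [h6]
        _ = _ := by group
    have h5 := card_dvd_of_le h4
    rw [Subgroup.card_map_of_injective (MulAut.conj g).injective, hyC] at h5
    have h6 := hdv.trans h5
    norm_num at h6
  · rw [(H898.J3Cent.seventeen h hco).1] at hdv
    norm_num at hdv
  · rw [H898.J3Cent.card_nineteen h hco] at hdv
    norm_num at hdv

/-- **the character of degree 1615** -/
theorem exists_j3 (h : Spor.IsoJ3 S) : ∃ θ : IrrCharacter S, charDegree (θ : S → ℂ) = 1615 ∧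
    (∀ g, ∃ k : ℤ, (θ : S → ℂ) g = k) ∧ (∀ (b : MulAut S) (s : S), (θ : S → ℂ) (b s) = (θ : S → ℂ) s) ∧
    ∀ M : Ideal AlgInt, IsPModular 3 M → θ ∈ principalBlock M S := by
  have := Cfsg.Agent.Characters.Core.finite_irr (G := S)
  let _ := Fintype.ofFinite (IrrCharacter S)
  have f3 : Fact (Nat.Prime 3) := ⟨by norm_num⟩
  obtain ⟨V, hdg, hV⟩ := Cfsg.Agent.H417.JThreeDeg.hyp h
  obtain ⟨β, hβ, hβ'⟩ := Cfsg.Agent.H360.LD.exists_unique (Cfsg.Agent.H360.LD.b0 hV) (Cfsg.Agent.H360.LD.b2 hV)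
  have eβ : charDegree (β : S → ℂ) = 1615 := by
    have h1 : ((dg β : ℕ) : ℤ) = 1615 := by rw [← hdg, hβ]
    exact_mod_cast h1
  have huniq : ∀ ψ : IrrCharacter S, charDegree (ψ : S → ℂ) = charDegree (β : S → ℂ) → ψ = β := by
    intro ψ hψ
    apply hβ'
    rw [hdg]
    have h1 : dg ψ = 1615 := by rw [← eβ]; exact hψ
    rw [h1]
    rfl
  obtain ⟨Q⟩ := (inferInstance : Nonempty (Sylow 3 S))
  refine ⟨β, eβ, ?_, ?_, ?_⟩
  · refine int_of_unique fun ψ hψ => huniq ψ ?_
    rw [Blocks.Basic.irr_one_eq_charDegree ψ.2, Blocks.Basic.irr_one_eq_charDegree β.2] at hψ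
    exact_mod_cast hψ
  · exact Cfsg.Agent.H954.LD.inv_of_unique huniq
  · intro M hM
    exact mem_principal hM Q (cent_three h Q) β (by rw [eβ]; norm_num)

end Cfsg.Agent.H469.CY
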