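import Cfsg.Agent.H469.CY.J3
import Cfsg.Agent.H629.CY.Defs

/-!
# S4829, `J₃`, `p = 3` (helper469)
-/

set_option autoImplicit false

namespace Cfsg.Agent.H469.CY

open Cfsg

universe u

/-- **`J₃`, `p = 3`** -/
theorem witOR_j3 {S : Type u} [Group S] [Finite S] (h : Spor.IsoJ3 S) : Cfsg.Agent.H629.CY.WitOR 3 S := by
  obtain ⟨θ, h1, h2, -, h4⟩ := exists_j3 h
  intro M hM
  refine ⟨θ, h4 M hM, ?_, by rw [h1]; norm_num, by rw [h1]; decide, fun g => ?_⟩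
  · intro h5
    rw [h5] at h1
    norm_num [charDegree] at h1
  · obtain ⟨k, hk⟩ := h2 g
    exact ⟨(k : ℚ), by rw [hk]; push_cast; rfl⟩

end Cfsg.Agent.H469.CY
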