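import Cfsg.Agent.H713.B0R.SuzFive
import Cfsg.Agent.H469.CY.J3
import Cfsg.Agent.H629.CY.Defs

/-!
# S4829, `Suz`, `p = 5` (helper469)

The character of degree 1001 of the rank 3 action on 1782 points; `C(P) = P` (helper713).
-/

set_option autoImplicit false

namespace Cfsg.Agent.H469.CY

open Cfsg Subgroup Cfsg.Agent.Characters.Core
open Cfsg.Agent.H690.Spor.RankThree Cfsg.Agent.H493.RatB Cfsg.Agent.H968.Rat Cfsg.Agent.H968

universe u v

theorem witOR_congr {p : ℕ} {S : Type u} [Group S] [Finite S] {T : Type v} [Group T]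
    (e : S ≃* T) (h : Cfsg.Agent.H629.CY.WitOR p T) : Cfsg.Agent.H629.CY.WitOR p S := by
  intro M hM
  obtain ⟨θ, h1, h2, h3, h4, h5⟩ := h M hM
  have hd : charDegree (fun x : S => (θ : T → ℂ) (e x)) = charDegree (θ : T → ℂ) := by
    rw [Blocks.Basic.charDegree_def, Blocks.Basic.charDegree_def, map_one]
  refine ⟨⟨_, isIrr_comp (e : S →* T) e.surjective θ.2⟩, mem_principalBlock_comp e h1, fun h5 => h2 (by
    funext y
    obtain ⟨x, rfl⟩ := e.surjective y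
    exact congrFun h5 x), ?_, ?_, fun g => h5 (e g)⟩
  · show ¬ p ∣ charDegree (fun x : S => (θ : T → ℂ) (e x))
    rw [hd]
    exact h3
  · show Odd (charDegree (fun x : S => (θ : T → ℂ) (e x)))
    rw [hd]
    exact h4

/-- a single character of odd degree prime to `p`, `C(P)` a `p`-group -/
theorem witOR_of_cent {p : ℕ} [hp : Fact p.Prime] {S : Type u} [Group S] [Finite S] (P : Sylow p S)
    (hC : IsPGroup p (centralizer ((P : Subgroup S) : Set S))) (χ : IrrCharacter S) (h1 : charDegree (χ : S → ℂ) ≠ 1)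
    (hd : ¬ p ∣ charDegree (χ : S → ℂ)) (ho : Odd (charDegree (χ : S → ℂ))) (hr : RatV (χ : S → ℂ)) :
    Cfsg.Agent.H629.CY.WitOR p S := by
  intro M hM
  refine ⟨χ, mem_principal hM P hC χ hd, fun h => h1 ?_, hd, ho, hr⟩
  rw [h, Blocks.Basic.charDegree_def]
  norm_num

/-- **`Suz`, `p = 5`** -/
theorem witOR_suz5 {S : Type u} [Group S] (h : Cfsg.Spor.IsoSuz S) : Cfsg.Agent.H629.CY.WitOR 5 S := by
  obtain ⟨e⟩ := h
  have hp5 : Fact (Nat.Prime 5) := ⟨by norm_num⟩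
  have hJ : Nat.card Spor.Suz = 448345497600 := Cfsg.Agent.NotCT.Orders.suz ⟨MulEquiv.refl _⟩
  have : Finite Spor.Suz := Nat.finite_of_card_ne_zero (by rw [hJ]; norm_num)
  have hS : Finite S := Finite.of_equiv _ e.symm.toEquiv
  refine witOR_congr e ?_
  obtain ⟨h1, q₁, q₂, h2, h3⟩ := Cfsg.Agent.S1680.result
  obtain ⟨R, hR⟩ := R3.of_index _ (k := 416) (l := 1365) h1 h2 h3 (by norm_num) (by norm_num) (by norm_num)
  obtain ⟨P, hP⟩ := Cfsg.Agent.H713.B0R.SuzFive.exists_sylow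
  have hC : IsPGroup 5 (centralizer ((P : Subgroup Spor.Suz) : Set Spor.Suz)) := by
    rw [hP]
    exact P.isPGroup'
  obtain ⟨χ₁, χ₂, c1, c2, -, c4⟩ := Imc.exists_pair hR
    (fun a b => decide (a ≠ 1 ∧ a % 5 ≠ 0 ∧ a % 2 = 1) || decide (b ≠ 1 ∧ b % 5 ≠ 0 ∧ b % 2 = 1)) (by decide +kernel)
  rw [Bool.or_eq_true, decide_eq_true_eq, decide_eq_true_eq] at c4
  rcases c4 with c4 | c4
  · exact witOR_of_cent P hC χ₁ c4.1 (fun h5 => c4.2.1 (Nat.mod_eq_zero_of_dvd h5)) (Nat.odd_iff.2 c4.2.2)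
      (RatV.of_int c1)
  · exact witOR_of_cent P hC χ₂ c4.1 (fun h5 => c4.2.1 (Nat.mod_eq_zero_of_dvd h5)) (Nat.odd_iff.2 c4.2.2)
      (RatV.of_int c2)

end Cfsg.Agent.H469.CY
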